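import Groth.Agent.Vancyc.H693.Geo
import Groth.Agent.Vancyc.H694.StdT
import Mathlib.Algebra.MvPolynomial.Equiv

/-!
# The last chart of `V_+(∑ x_i T_i - b T_last)` is the split model `∑ x_i x_{m+1+i} = b`

* `exists_openImm`: the chart `T_last = 1` of `Geo.X R m b` is the spectrum of
  `VanCyc.quadRing R (stdT R (m + 1)) b` over `R`, and its origin is the point `Geo.muPt`.
-/

set_option autoImplicit false
universe u
open CategoryTheory CategoryTheory.Limits AlgebraicGeometry
open Groth.Agent.Vancyc.H693.GeoAlg Groth.Agent.Vancyc.H694.StdT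
open Groth.Agent.Sga5.ProjChart Groth.Agent.Lefpen.H713.HypProj

namespace Groth.Agent.Vancyc.H164.ModelChart
open Groth.Agent.Vancyc.H693

section Alg

variable (R : Type u) [CommRing R] (m : ℕ)

/-- `lo i ↦ inr i`, `hi i ↦ inl i` -/
def idx : Fin (2 * m) ≃ Fin m ⊕ Fin m :=
  (finCongr (two_mul m)).trans (finSumFinEquiv.symm.trans (Equiv.sumComm _ _))

lemma idx_lo (i : Fin m) : idx m (lo m i) = Sum.inr i := by
  have h : finCongr (two_mul m) (lo m i) = Fin.castAdd m i := rfl
  rw [idx, Equiv.trans_apply, Equiv.trans_apply, h, finSumFinEquiv_symm_apply_castAdd]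
  rfl

lemma idx_hi (i : Fin m) : idx m (hi m i) = Sum.inl i := by
  have h : finCongr (two_mul m) (hi m i) = Fin.natAdd m i := rfl
  rw [idx, Equiv.trans_apply, Equiv.trans_apply, h, finSumFinEquiv_symm_apply_natAdd]
  rfl

/-- `R[x_lo, x_hi] ≃ R[x_lo][x_hi]` -/
noncomputable def E : MvPolynomial (Fin (2 * m)) R ≃ₐ[R] MvPolynomial (Fin m) (MvPolynomial (Fin m) R) :=
  (MvPolynomial.renameEquiv R (idx m)).trans (MvPolynomial.sumAlgEquiv R (Fin m) (Fin m))

lemma E_C (r : R) : E R m (MvPolynomial.C r) = MvPolynomial.C (MvPolynomial.C r) := by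
  rw [E, AlgEquiv.trans_apply, MvPolynomial.renameEquiv_apply, MvPolynomial.rename_C,
    MvPolynomial.sumAlgEquiv_C_inl]

lemma E_lo (i : Fin m) : E R m (MvPolynomial.X (lo m i)) = MvPolynomial.C (MvPolynomial.X i) := by
  rw [E, AlgEquiv.trans_apply, MvPolynomial.renameEquiv_apply, MvPolynomial.rename_X, idx_lo,
    MvPolynomial.sumAlgEquiv_X_inr]

lemma E_hi (i : Fin m) : E R m (MvPolynomial.X (hi m i)) = MvPolynomial.X i := by
  rw [E, AlgEquiv.trans_apply, MvPolynomial.renameEquiv_apply, MvPolynomial.rename_X, idx_hi,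
    MvPolynomial.sumAlgEquiv_X_inl]

lemma D_castSucc (i : Fin (m + 1)) : D R m (Fin.last (m + 1)) i.castSucc = MvPolynomial.X i := by
  rw [← Fin.succAbove_last_apply, D_succAbove]

lemma E_eqn (b : R) : E R (m + 1) (VanCyc.quadPoly (stdT R (m + 1)) - MvPolynomial.C b) =
    dehom (m + 1) (B R m) (Fin.last (m + 1)) (lin R m b).1 := by
  rw [dehom_lin, D_self, mul_one, quadPoly_stdT, map_sub, map_sum, E_C]
  congr 1
  refine Finset.sum_congr rfl fun i _ => ?_
  rw [map_mul, E_lo, E_hi, D_castSucc]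

/-- the ring of the model is the ring of the last chart -/
noncomputable def Φ (b : R) : VanCyc.quadRing R (stdT R (m + 1)) b ≃+* ChR (lin R m b) (Fin.last (m + 1)) :=
  Ideal.quotientEquiv _ _ (E R (m + 1)).toRingEquiv (by
    rw [Ideal.map_span, Set.image_singleton]
    exact congrArg (fun t => Ideal.span {t}) (E_eqn R m b).symm)

lemma Φ_mk (b : R) (p : MvPolynomial (Fin (2 * (m + 1))) R) :
    Φ R m b (Ideal.Quotient.mk _ p) = Ideal.Quotient.mk _ (E R (m + 1) p) := rfl

lemma Φ_symm_C (b r : R) : (Φ R m b).symm (Ideal.Quotient.mk _ (MvPolynomial.C (MvPolynomial.C r))) =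
    Ideal.Quotient.mk _ (MvPolynomial.C r) := by
  rw [RingEquiv.symm_apply_eq, Φ_mk, E_C]

end Alg

section Max

variable (R : Type u) [CommRing R] [IsLocalRing R] {N : ℕ}

instance isMaximal_originIdeal : (VanCyc.originIdeal (N := N) R).IsMaximal := by
  have h : VanCyc.originIdeal (N := N) R =
      (IsLocalRing.maximalIdeal R).comap (MvPolynomial.constantCoeff (R := R) (σ := Fin N)) := by
    apply le_antisymm
    · refine sup_le ?_ ?_
      · rw [Ideal.map_le_iff_le_comap]
        intro r hr
        rw [Ideal.mem_comap, Ideal.mem_comap, MvPolynomial.constantCoeff_C]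
        exact hr
      · rw [Ideal.span_le]
        rintro _ ⟨i, rfl⟩
        rw [SetLike.mem_coe, Ideal.mem_comap, MvPolynomial.constantCoeff_X]
        exact Ideal.zero_mem _
    · intro p hp
      have h1 : p = MvPolynomial.C (MvPolynomial.constantCoeff p) +
          (p - MvPolynomial.C (MvPolynomial.constantCoeff p)) := by ring
      have h2 : ∀ p : MvPolynomial (Fin N) R, p - MvPolynomial.C (MvPolynomial.constantCoeff p) ∈
          Ideal.span (Set.range MvPolynomial.X) := by
        intro p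
        induction p using MvPolynomial.induction_on with
        | C a => simp
        | add p q hp hq =>
          have : p + q - MvPolynomial.C (MvPolynomial.constantCoeff (p + q)) =
              (p - MvPolynomial.C (MvPolynomial.constantCoeff p)) +
                (q - MvPolynomial.C (MvPolynomial.constantCoeff q)) := by
            rw [map_add, map_add]; ring
          rw [this]
          exact Ideal.add_mem _ hp hq
        | mul_X p i hp =>
          rw [map_mul, MvPolynomial.constantCoeff_X, mul_zero, map_zero, sub_zero]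
          exact Ideal.mul_mem_left _ _ (Ideal.subset_span ⟨i, rfl⟩)
      rw [h1]
      exact Ideal.add_mem _ (Ideal.mem_sup_left (Ideal.mem_map_of_mem _ hp)) (Ideal.mem_sup_right (h2 p))
  rw [h]
  exact Ideal.comap_isMaximal_of_surjective _ fun r => ⟨MvPolynomial.C r, MvPolynomial.constantCoeff_C _ r⟩

/-- a proper ideal containing the origin ideal is the origin ideal -/
lemma eq_originQuot (a : Fin N → Fin N → R) (b : R) (P : Ideal (VanCyc.quadRing R a b)) (hP : P ≠ ⊤)
    (hm : ∀ r ∈ IsLocalRing.maximalIdeal R, Ideal.Quotient.mk _ (MvPolynomial.C r) ∈ P)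
    (hX : ∀ i, Ideal.Quotient.mk _ (MvPolynomial.X i) ∈ P) : P = VanCyc.originQuot R a b := by
  have h1 : VanCyc.originIdeal R ≤ P.comap (Ideal.Quotient.mk _) := by
    refine sup_le ?_ ?_
    · rw [Ideal.map_le_iff_le_comap]
      exact fun r hr => hm r hr
    · rw [Ideal.span_le]
      rintro _ ⟨i, rfl⟩
      exact hX i
  have h2 : P.comap (Ideal.Quotient.mk (Ideal.span {VanCyc.quadPoly a - MvPolynomial.C b})) ≠ ⊤ :=
    fun h => hP (by rw [← Ideal.map_comap_of_surjective _ Ideal.Quotient.mk_surjective P, h, Ideal.map_top])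
  have h3 := (isMaximal_originIdeal R (N := N)).eq_of_le h2 h1
  rw [VanCyc.originQuot, h3, Ideal.map_comap_of_surjective _ Ideal.Quotient.mk_surjective]

end Max

theorem exists_openImm (R : Type u) [CommRing R] [IsLocalRing R] (m : ℕ) (b : R)
    (hb : b ∈ IsLocalRing.maximalIdeal R)
    (y : Spec (CommRingCat.of (VanCyc.quadRing R (stdT R (m + 1)) b)))
    (hy : PrimeSpectrum.asIdeal y = VanCyc.originQuot R (stdT R (m + 1)) b) :
    ∃ j : Spec (CommRingCat.of (VanCyc.quadRing R (stdT R (m + 1)) b)) ⟶ Geo.X R m b,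
      IsOpenImmersion j ∧ j ≫ Geo.π R m b ≫ Geo.v R m = modelOdd R (m + 1) b ∧
      ∀ (κ : Type u) [Field κ] (g : B R m →+* κ) (_hg : ∀ i, g (MvPolynomial.X i) = 0)
        (_hm : ∀ r ∈ IsLocalRing.maximalIdeal R, g (MvPolynomial.C r) = 0)
        (hgb : g (MvPolynomial.C b) = 0), (Geo.muPt R m b g hgb) default = j y := by
  have hiso : IsIso (Spec.map (CommRingCat.ofHom (Φ R m b).symm.toRingHom)) := by
    have : IsIso (CommRingCat.ofHom (Φ R m b).symm.toRingHom) :=
      (ConcreteCategory.isIso_iff_bijective _).mpr (Φ R m b).symm.bijective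
    infer_instance
  refine ⟨Spec.map (CommRingCat.ofHom (Φ R m b).symm.toRingHom) ≫ chartH (lin R m b) (Fin.last (m + 1)),
    MorphismProperty.comp_mem (W := @IsOpenImmersion) _ _ inferInstance inferInstance, ?_, ?_⟩
  · rw [Category.assoc, chartH_toSpec_assoc, ← Spec.map_comp, ← Spec.map_comp, ← CommRingCat.ofHom_comp,
      ← CommRingCat.ofHom_comp]
    congr 2
    apply RingHom.ext
    intro r
    exact Φ_symm_C R m b r
  · intro κ _ g hg hm hgb
    rw [Geo.muPt, Scheme.Hom.comp_apply, Scheme.Hom.comp_apply]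
    congr 1
    apply PrimeSpectrum.ext
    change Ideal.comap (Geo.mu R m b g hgb) ⊥ = Ideal.comap (Φ R m b).symm.toRingHom y.asIdeal
    have h1 : Ideal.comap ((Geo.mu R m b g hgb).comp (Φ R m b).toRingHom) ⊥ =
        VanCyc.originQuot R (stdT R (m + 1)) b := by
      apply eq_originQuot
      · exact RingHom.ker_ne_top ((Geo.mu R m b g hgb).comp (Φ R m b).toRingHom)
      · intro r hr
        rw [Ideal.mem_comap, Ideal.mem_bot]
        change Geo.mu R m b g hgb (Φ R m b (Ideal.Quotient.mk _ (MvPolynomial.C r))) = 0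
        rw [Φ_mk, E_C, Geo.mu_C, hm r hr]
      · intro i
        rw [Ideal.mem_comap, Ideal.mem_bot]
        change Geo.mu R m b g hgb (Φ R m b (Ideal.Quotient.mk _ (MvPolynomial.X i))) = 0
        rcases eq_lo_or_hi i with ⟨k, rfl⟩ | ⟨k, rfl⟩
        · rw [Φ_mk, E_lo, Geo.mu_C, hg]
        · rw [Φ_mk, E_hi, Geo.mu_X]
    rw [hy, ← h1, Ideal.comap_comap]
    congr 1
    apply RingHom.ext
    intro x
    change Geo.mu R m b g hgb x = Geo.mu R m b g hgb (Φ R m b ((Φ R m b).symm x))
    rw [RingEquiv.apply_symm_apply]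

end Groth.Agent.Vancyc.H164.ModelChart
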